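import Mathlib
import Cfsg.Prelude.Def_GeometricClasses

/-!
# Project E10M (leader helper16) -> S5850, FIELD BLOCK (sub-leader helper20), stage 2 : shared definitions

`K` a field subalgebra of `M_n(F)` of degree `r`, `n = 2 r`, self-adjoint for the polar form of `Q`.

* `EFieldCoord Q K ℓ v w s β` : `K`-coordinates of `F^n` w.r.t. the `K`-basis `v, w` and the quadratic form in coordinates,
  `Q (a v + b w) = ℓ (a² + s a b + β b²)` for an `F`-linear functional `ℓ` on the matrix algebra which is non-degenerate on `K`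
  (`ℓ (k c) = 0` for all `k ∈ K` forces `c = 0`).  So `(F^n, Q)` is the transfer by `ℓ` of the binary form `X² + s X Y + β Y²` over `K`.
* `efieldGen Q K` : the matrices `x` commuting with `K` with `f (x u) u = c Q u` for a scalar `c ∈ F` (a set of canonical generators of
  the field `L = K + K j` of the anisotropic case).
-/

set_option autoImplicit false

namespace Cfsg.Agent.Lib.Helper16.E10M

open Cfsg Cfsg.Geo
open scoped MatrixGroups Matrix

variable {n : ℕ} {F : Type*} [Field F]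

/-- `K`-coordinates w.r.t. `v, w` and the form in coordinates -/
structure EFieldCoord (Q : (Fin n → F) → F) (K : Subalgebra F (Matrix (Fin n) (Fin n) F))
    (ℓ : Matrix (Fin n) (Fin n) F →ₗ[F] F) (v w : Fin n → F) (s β : Matrix (Fin n) (Fin n) F) : Prop where
  hs : s ∈ K
  hβ : β ∈ K
  ell : ∀ c ∈ K, (∀ k ∈ K, ℓ (k * c) = 0) → c = 0
  inj : ∀ a ∈ K, ∀ b ∈ K, a *ᵥ v + b *ᵥ w = 0 → a = 0 ∧ b = 0
  surj : ∀ x : Fin n → F, ∃ a ∈ K, ∃ b ∈ K, x = a *ᵥ v + b *ᵥ w
  quad : ∀ a ∈ K, ∀ b ∈ K, Q (a *ᵥ v + b *ᵥ w) = ℓ (a * a + s * a * b + β * b * b)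

/-- the canonical generators -/
def efieldGen (Q : (Fin n → F) → F) (K : Subalgebra F (Matrix (Fin n) (Fin n) F)) :
    Set (Matrix (Fin n) (Fin n) F) :=
  {x | (∀ k ∈ K, x * k = k * x) ∧ ∃ c : F, ∀ u : Fin n → F, QuadraticMap.polar Q (x *ᵥ u) u = c * Q u}

theorem mem_efieldGen (Q : (Fin n → F) → F) (K : Subalgebra F (Matrix (Fin n) (Fin n) F))
    (x : Matrix (Fin n) (Fin n) F) :
    x ∈ efieldGen Q K ↔ (∀ k ∈ K, x * k = k * x) ∧
      ∃ c : F, ∀ u : Fin n → F, QuadraticMap.polar Q (x *ᵥ u) u = c * Q u := Iff.rfl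

end Cfsg.Agent.Lib.Helper16.E10M
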